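import Mathlib.RingTheory.Kaehler.JacobiZariski
import Mathlib.RingTheory.Etale.Kaehler
import Mathlib.RingTheory.Smooth.Kaehler

/-!
# `H^{-1}` of the naive cotangent complex: change of base by a formally etale map, gluing
-/

set_option autoImplicit false
set_option linter.style.haveILetI false
set_option backward.isDefEq.respectTransparency.types false
set_option backward.isDefEq.respectTransparency false

universe u

open Algebra TensorProduct

noncomputable section

namespace Groth.L19.H1Sheaf

variable (A A' B : Type u) [CommRing A] [CommRing A'] [CommRing B] [Algebra A A'] [Algebra A B]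
  [Algebra A' B] [IsScalarTower A A' B]

theorem h1_map_surjective [Subsingleton Ω[A'⁄A]] :
    Function.Surjective (Algebra.H1Cotangent.map A A' B B) := by
  intro x
  haveI : Subsingleton (B ⊗[A'] Ω[A'⁄A]) :=
    subsingleton_of_forall_eq 0 fun t => by
      induction t using TensorProduct.induction_on with
      | zero => rfl
      | tmul a b => rw [Subsingleton.elim b 0, tmul_zero]
      | add a b ha hb => rw [ha, hb, add_zero]
  exact (Algebra.H1Cotangent.exact_map_δ A A' B x).mp (Subsingleton.elim _ _)

/-- the polynomial presentation over `A'` as a presentation over `A` -/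
abbrev restrictedSelf : Algebra.Extension.{u} A B :=
  letI : Algebra (MvPolynomial B A') B := (inferInstance : Algebra (Generators.self A' B).Ring B)
  haveI : IsScalarTower A (MvPolynomial B A') B := .of_algebraMap_eq fun x => by
    rw [IsScalarTower.algebraMap_apply A A' B, IsScalarTower.algebraMap_apply A A' (MvPolynomial B A')]
    exact IsScalarTower.algebraMap_apply A' (Generators.self A' B).Ring B _
  { Ring := MvPolynomial B A'
    σ := (Generators.self A' B).toExtension.σ
    algebraMap_σ := (Generators.self A' B).toExtension.algebraMap_σ }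

theorem h1_map_injective [FormallySmooth A A'] :
    Function.Injective (Algebra.H1Cotangent.map A A' B B) := by
  let P := (Generators.self A B).toExtension
  let P' := (Generators.self A' B).toExtension
  let Q : Algebra.Extension.{u} A B := restrictedSelf A A' B
  haveI : FormallySmooth A P.Ring := inferInstanceAs (FormallySmooth A (MvPolynomial _ _))
  haveI : FormallySmooth A Q.Ring := (FormallySmooth.comp A A' (MvPolynomial B A') :)
  let h : P.Hom Q :=
    { toRingHom := ((Generators.self A B).defaultHom (Generators.self A' B)).toExtensionHom.toRingHom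
      toRingHom_algebraMap := fun x => by
        refine (((Generators.self A B).defaultHom (Generators.self A' B)).toExtensionHom.toRingHom_algebraMap x).trans ?_
        exact (IsScalarTower.algebraMap_apply A A' (MvPolynomial B A') x).symm
      algebraMap_toRingHom :=
        ((Generators.self A B).defaultHom (Generators.self A' B)).toExtensionHom.algebraMap_toRingHom }
  let g : Q.Hom P' :=
    { toRingHom := RingHom.id _
      toRingHom_algebraMap := fun x => IsScalarTower.algebraMap_apply A A' (MvPolynomial B A') x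
      algebraMap_toRingHom := fun x => (Algebra.algebraMap_self_apply _).symm }
  have hg : Function.Injective (Algebra.Extension.H1Cotangent.map g) := by
    have hid : ∀ c : Q.Cotangent, (Algebra.Extension.Cotangent.map g c).val = c.val := by
      intro c
      obtain ⟨c, rfl⟩ := Algebra.Extension.Cotangent.mk_surjective c
      rfl
    intro x y hxy
    refine Algebra.Extension.h1Cotangentι_ext _ _ (Algebra.Extension.Cotangent.ext ?_)
    rw [← hid x.1, ← hid y.1]
    exact congrArg (fun z => z.1.val) hxy
  have hh : Function.Injective (Algebra.Extension.H1Cotangent.map h) := by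
    rw [← Algebra.Extension.H1Cotangent.equivOfFormallySmooth_toLinearMap h]
    exact (Algebra.Extension.H1Cotangent.equivOfFormallySmooth P Q).injective
  intro x y hxy
  refine hh (hg ?_)
  rw [← Algebra.Extension.H1Cotangent.map_comp_apply h g,
    ← Algebra.Extension.H1Cotangent.map_comp_apply h g,
    Algebra.Extension.H1Cotangent.map_eq (g.comp h)
      ((Generators.self A B).defaultHom (Generators.self A' B)).toExtensionHom]
  exact hxy

omit A A' B in
theorem h1_map_self {R S : Type u} [CommRing R] [CommRing S] [Algebra R S] (i₁ : Algebra R R)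
    (i₂ : Algebra S S) (h₁ : ∀ r, i₁.algebraMap r = r) (h₂ : ∀ r, i₂.algebraMap r = r)
    (t₁ : @IsScalarTower R R S i₁.toSMul _ _) (t₂ : @IsScalarTower R S S _ i₂.toSMul _)
    (x : Algebra.H1Cotangent R S) :
    @Algebra.H1Cotangent.map R R _ _ i₁ S _ _ S _ _ _ t₁ i₂ t₂ x = x := by
  obtain rfl : i₁ = Algebra.id R := Algebra.algebra_ext _ _ h₁
  obtain rfl : i₂ = Algebra.id S := Algebra.algebra_ext _ _ h₂
  unfold Algebra.H1Cotangent.map
  rw [Algebra.Extension.H1Cotangent.map_eq _ (Algebra.Extension.Hom.id _)]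
  exact congr($(Algebra.Extension.H1Cotangent.map_id) x)

theorem h1_map_bijective [FormallySmooth A A'] [Subsingleton Ω[A'⁄A]] (i₂ : Algebra B B)
    (h₂ : ∀ r, i₂.algebraMap r = r) (t₂ : @IsScalarTower A B B _ i₂.toSMul _) :
    Function.Bijective (@Algebra.H1Cotangent.map A A' _ _ _ B _ _ B _ _ _ _ i₂ t₂) := by
  obtain rfl : i₂ = Algebra.id B := Algebra.algebra_ext _ _ h₂
  exact ⟨h1_map_injective A A' B, h1_map_surjective A A' B⟩

omit A A' B in
theorem h1_map_localized {R S T : Type u} [CommRing R] [CommRing S] [CommRing T] [Algebra R S]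
    [Algebra R T] [Algebra S T] [IsScalarTower R S T] (M : Submonoid S) [IsLocalization M T]
    (i₁ : Algebra R R) (h₁ : ∀ r, i₁.algebraMap r = r) (t₁ : @IsScalarTower R R T i₁.toSMul _ _) :
    IsLocalizedModule M (@Algebra.H1Cotangent.map R R _ _ i₁ S _ _ T _ _ _ t₁ _ _) := by
  obtain rfl : i₁ = Algebra.id R := Algebra.algebra_ext _ _ h₁
  exact Algebra.H1Cotangent.isLocalizedModule R T M

omit A A' B in
theorem h1_map_localized₂ {R S T : Type u} [CommRing R] [CommRing S] [CommRing T] [Algebra R S]
    [Algebra R T] [Algebra S T] [IsScalarTower R S T] (g : S) [IsLocalization.Away g T]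
    (i₁ : Algebra R R) (h₁ : ∀ r, i₁.algebraMap r = r) (t₁ : @IsScalarTower R R T i₁.toSMul _ _) :
    (∀ y : Algebra.H1Cotangent R T, ∃ (n : ℕ) (x : Algebra.H1Cotangent R S),
      @Algebra.H1Cotangent.map R R _ _ i₁ S _ _ T _ _ _ t₁ _ _ x = algebraMap S T (g ^ n) • y) ∧
    ∀ x : Algebra.H1Cotangent R S,
      @Algebra.H1Cotangent.map R R _ _ i₁ S _ _ T _ _ _ t₁ _ _ x = 0 → ∃ n : ℕ, g ^ n • x = 0 := by
  have hl := h1_map_localized (Submonoid.powers g) (T := T) i₁ h₁ t₁
  refine ⟨fun y => ?_, fun x hx => ?_⟩
  · obtain ⟨⟨x, ⟨_, n, rfl⟩⟩, hx⟩ := hl.surj y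
    exact ⟨n, x, hx.symm.trans (IsScalarTower.algebraMap_smul T (g ^ n) y).symm⟩
  · obtain ⟨⟨_, n, rfl⟩, hn⟩ := hl.exists_of_eq (hx.trans (map_zero _).symm)
    exact ⟨n, hn.trans (smul_zero _)⟩

variable {R M : Type u} [CommRing R] [AddCommGroup M] [Module R M] {ι : Type*} [Fintype ι]

omit A A' B in
/-- fractions agreeing on overlaps glue -/
theorem exists_glue (g : ι → R) (hg : Ideal.span (Set.range g) = ⊤) (a : ι → M) (n : ι → ℕ)
    (h : ∀ i j, ∃ N : ℕ, (g i * g j) ^ N • ((g j) ^ (n j) • a i - (g i) ^ (n i) • a j) = 0) :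
    ∃ m : M, ∀ i, ∃ N : ℕ, (g i) ^ N • ((g i) ^ (n i) • m - a i) = 0 := by
  classical
  choose N hN using h
  let K := Finset.univ.sup fun p : ι × ι => N p.1 p.2
  let k : ι → ℕ := fun i => n i + K
  let b : ι → M := fun i => (g i) ^ K • a i
  have hb : ∀ i j, (g j) ^ (k j) • b i = (g i) ^ (k i) • b j := by
    intro i j
    obtain ⟨c, hc⟩ : ∃ c, K = N i j + c :=
      ⟨K - N i j, (Nat.add_sub_cancel' (Finset.le_sup (f := fun p : ι × ι => N p.1 p.2)
        (Finset.mem_univ (i, j)))).symm⟩
    have h0 : (g i * g j) ^ K • ((g j) ^ (n j) • a i - (g i) ^ (n i) • a j) = 0 := by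
      rw [hc, pow_add, mul_comm, mul_smul, hN i j, smul_zero]
    rw [smul_sub, sub_eq_zero, smul_smul, smul_smul] at h0
    simp only [b, k, smul_smul]
    refine Eq.trans ?_ (h0.trans ?_) <;> congr 1 <;> rw [mul_pow] <;> ring
  have ht : (1 : R) ∈ Ideal.span (Set.range fun i => (g i) ^ (k i)) := by
    refine (Ideal.eq_top_iff_one _).mp (Ideal.radical_eq_top.mp (top_le_iff.mp ?_))
    rw [← hg, Ideal.span_le]
    rintro _ ⟨i, rfl⟩
    exact ⟨k i, Ideal.subset_span ⟨i, rfl⟩⟩
  obtain ⟨c, hc⟩ := Ideal.mem_span_range_iff_exists_fun.mp ht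
  refine ⟨∑ i, c i • b i, fun j => ⟨K, ?_⟩⟩
  have e : (g j) ^ (k j) • (∑ i, c i • b i) = b j := by
    rw [Finset.smul_sum]
    calc _ = ∑ i, (c i * (g i) ^ (k i)) • b j := Finset.sum_congr rfl fun i _ => by
          rw [smul_comm, hb, smul_smul]
      _ = b j := by rw [← Finset.sum_smul, hc, one_smul]
  rw [smul_sub, smul_smul, ← pow_add, add_comm K (n j)]
  exact sub_eq_zero.mpr e

end Groth.L19.H1Sheaf
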