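import Groth.Agent.L19.H1Sheaf.Alg
import Groth.Agent.L18.Frame
import Groth.Prelude.Def_SheafNL
import Mathlib.AlgebraicGeometry.AffineScheme

/-!
# Restriction maps of the chart `H^{-1}` modules
-/

set_option autoImplicit false
set_option linter.style.haveILetI false
set_option backward.isDefEq.respectTransparency.types false
set_option backward.isDefEq.respectTransparency false

universe u

open CategoryTheory AlgebraicGeometry TopologicalSpace Opposite

noncomputable section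

namespace Groth.L19.H1Sheaf

open Groth.L18.Frame (ro)

variable {X Y : Scheme.{u}} {f : X ⟶ Y}

variable (f) in
/-- an affine chart pair -/
structure Chart where
  U : X.affineOpens
  V : Y.affineOpens
  e : (U : X.Opens) ≤ f ⁻¹ᵁ (V : Y.Opens)

namespace Chart

/-- `c' ≤ c` -/
structure Le (c' c : Chart f) : Prop where
  hU : (c'.U : X.Opens) ≤ c.U
  hV : (c'.V : Y.Opens) ≤ c.V

theorem Le.trans {a b c : Chart f} (h : Le a b) (h' : Le b c) : Le a c :=
  ⟨h.hU.trans h'.hU, h.hV.trans h'.hV⟩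

theorem Le.refl (a : Chart f) : Le a a := ⟨le_rfl, le_rfl⟩

/-- the `H^{-1}` module -/
abbrev H (c : Chart f) : Type u := NLCx.ChartH1 f c.U c.V c.e

/-- restriction -/
def res {c c' : Chart f} (h : Le c' c) : c.H →+ c'.H := NLCx.chartRes c.e c'.e h.hU h.hV

theorem res_res {c c' c'' : Chart f} (h : Le c' c) (h' : Le c'' c') (x : c.H) :
    res h' (res h x) = res (h'.trans h) x := by
  obtain ⟨U, V, e⟩ := c
  obtain ⟨U', V', e'⟩ := c'
  obtain ⟨U'', V'', e''⟩ := c''
  obtain ⟨hU, hV⟩ := h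
  obtain ⟨hU', hV'⟩ := h'
  unfold res NLCx.chartRes
  simp only [LinearMap.toAddMonoidHom_coe]
  unfold Algebra.H1Cotangent.map
  letI := (f.appLE (V : Y.Opens) (U : X.Opens) e).hom.toAlgebra
  letI := (f.appLE (V' : Y.Opens) (U' : X.Opens) e').hom.toAlgebra
  letI := (f.appLE (V'' : Y.Opens) (U'' : X.Opens) e'').hom.toAlgebra
  letI := (f.appLE (V : Y.Opens) (U' : X.Opens) (hU.trans e)).hom.toAlgebra
  letI := (f.appLE (V : Y.Opens) (U'' : X.Opens) ((hU'.trans hU).trans e)).hom.toAlgebra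
  letI := (f.appLE (V' : Y.Opens) (U'' : X.Opens) (hU'.trans e')).hom.toAlgebra
  letI := (X.presheaf.map (homOfLE hU).op).hom.toAlgebra
  letI := (X.presheaf.map (homOfLE hU').op).hom.toAlgebra
  letI := (X.presheaf.map (homOfLE (hU'.trans hU)).op).hom.toAlgebra
  letI := (Y.presheaf.map (homOfLE hV).op).hom.toAlgebra
  letI := (Y.presheaf.map (homOfLE hV').op).hom.toAlgebra
  letI := (Y.presheaf.map (homOfLE (hV'.trans hV)).op).hom.toAlgebra
  haveI : IsScalarTower Γ(X, (U : X.Opens)) Γ(X, (U' : X.Opens)) Γ(X, (U'' : X.Opens)) :=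
    IsScalarTower.of_algebraMap_eq' (by
      change (X.presheaf.map _).hom = (X.presheaf.map _).hom.comp (X.presheaf.map _).hom
      rw [← CommRingCat.hom_comp, ← Functor.map_comp]; rfl)
  haveI : IsScalarTower Γ(Y, (V : Y.Opens)) Γ(Y, (V' : Y.Opens)) Γ(Y, (V'' : Y.Opens)) :=
    IsScalarTower.of_algebraMap_eq' (by
      change (Y.presheaf.map _).hom = (Y.presheaf.map _).hom.comp (Y.presheaf.map _).hom
      rw [← CommRingCat.hom_comp, ← Functor.map_comp]; rfl)
  haveI : IsScalarTower Γ(Y, (V : Y.Opens)) Γ(Y, (V' : Y.Opens)) Γ(X, (U' : X.Opens)) :=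
    IsScalarTower.of_algebraMap_eq' (by
      change (f.appLE _ _ _).hom = (f.appLE _ _ _).hom.comp (Y.presheaf.map _).hom
      rw [← CommRingCat.hom_comp, Scheme.Hom.map_appLE])
  haveI : IsScalarTower Γ(Y, (V' : Y.Opens)) Γ(Y, (V'' : Y.Opens)) Γ(X, (U'' : X.Opens)) :=
    IsScalarTower.of_algebraMap_eq' (by
      change (f.appLE _ _ _).hom = (f.appLE _ _ _).hom.comp (Y.presheaf.map _).hom
      rw [← CommRingCat.hom_comp, Scheme.Hom.map_appLE])
  haveI : IsScalarTower Γ(Y, (V : Y.Opens)) Γ(Y, (V'' : Y.Opens)) Γ(X, (U'' : X.Opens)) :=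
    IsScalarTower.of_algebraMap_eq' (by
      change (f.appLE _ _ _).hom = (f.appLE _ _ _).hom.comp (Y.presheaf.map _).hom
      rw [← CommRingCat.hom_comp, Scheme.Hom.map_appLE])
  haveI : IsScalarTower Γ(Y, (V : Y.Opens)) Γ(X, (U : X.Opens)) Γ(X, (U' : X.Opens)) :=
    IsScalarTower.of_algebraMap_eq' (by
      change (f.appLE _ _ _).hom = (X.presheaf.map _).hom.comp (f.appLE _ _ _).hom
      rw [← CommRingCat.hom_comp, Scheme.Hom.appLE_map])
  haveI : IsScalarTower Γ(Y, (V' : Y.Opens)) Γ(X, (U' : X.Opens)) Γ(X, (U'' : X.Opens)) :=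
    IsScalarTower.of_algebraMap_eq' (by
      change (f.appLE _ _ _).hom = (X.presheaf.map _).hom.comp (f.appLE _ _ _).hom
      rw [← CommRingCat.hom_comp, Scheme.Hom.appLE_map])
  haveI : IsScalarTower Γ(Y, (V : Y.Opens)) Γ(X, (U : X.Opens)) Γ(X, (U'' : X.Opens)) :=
    IsScalarTower.of_algebraMap_eq' (by
      change (f.appLE _ _ _).hom = (X.presheaf.map _).hom.comp (f.appLE _ _ _).hom
      rw [← CommRingCat.hom_comp, Scheme.Hom.appLE_map])
  refine (Algebra.Extension.H1Cotangent.map_comp_apply _ _ x).symm.trans ?_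
  rw [Algebra.Extension.H1Cotangent.map_eq]

theorem res_self {c : Chart f} (h : Le c c) (x : c.H) : res h x = x := by
  obtain ⟨U, V, e⟩ := c
  obtain ⟨hU, hV⟩ := h
  unfold res NLCx.chartRes
  simp only [LinearMap.toAddMonoidHom_coe]
  letI := (f.appLE (V : Y.Opens) (U : X.Opens) e).hom.toAlgebra
  refine h1_map_self _ _ ?_ ?_ _ _ x
  · exact fun r => Groth.L18.Frame.ro_self hV r
  · exact fun r => Groth.L18.Frame.ro_self hU r

theorem res_smul {c c' : Chart f} (h : Le c' c) (a : Γ(X, (c.U : X.Opens))) (x : c.H) :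
    res h (a • x) = ro h.hU a • res h x := by
  obtain ⟨U, V, e⟩ := c
  obtain ⟨U', V', e'⟩ := c'
  obtain ⟨hU, hV⟩ := h
  unfold res NLCx.chartRes
  simp only [LinearMap.toAddMonoidHom_coe]
  letI := (f.appLE (V : Y.Opens) (U : X.Opens) e).hom.toAlgebra
  letI := (f.appLE (V' : Y.Opens) (U' : X.Opens) e').hom.toAlgebra
  letI := (X.presheaf.map (homOfLE hU).op).hom.toAlgebra
  rw [map_smul]
  exact (IsScalarTower.algebraMap_smul Γ(X, (U' : X.Opens)) a _).symm

theorem bijective_res_base {c c' : Chart f} (h : Le c' c) (hU : c'.U = c.U)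
    (a : Γ(Y, (c.V : Y.Opens))) (ha : (c'.V : Y.Opens) = Y.basicOpen a) :
    Function.Bijective (res h) := by
  obtain ⟨U, V, e⟩ := c
  obtain ⟨U', V', e'⟩ := c'
  obtain ⟨hU', hV⟩ := h
  subst hU
  dsimp only at a ha e e' hU' hV
  unfold res NLCx.chartRes
  simp only [LinearMap.toAddMonoidHom_coe]
  letI := (f.appLE (V : Y.Opens) (U' : X.Opens) e).hom.toAlgebra
  letI := (f.appLE (V' : Y.Opens) (U' : X.Opens) e').hom.toAlgebra
  letI := (Y.presheaf.map (homOfLE hV).op).hom.toAlgebra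
  haveI : IsScalarTower Γ(Y, (V : Y.Opens)) Γ(Y, (V' : Y.Opens)) Γ(X, (U' : X.Opens)) :=
    IsScalarTower.of_algebraMap_eq' (by
      change (f.appLE _ _ _).hom = (f.appLE _ _ _).hom.comp (Y.presheaf.map _).hom
      rw [← CommRingCat.hom_comp, Scheme.Hom.map_appLE])
  haveI : IsLocalization.Away a Γ(Y, (V' : Y.Opens)) := V.2.isLocalization_of_eq_basicOpen a (homOfLE hV) ha
  haveI : Algebra.FormallySmooth Γ(Y, (V : Y.Opens)) Γ(Y, (V' : Y.Opens)) :=
    Algebra.FormallySmooth.of_isLocalization (Submonoid.powers a)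
  haveI : Algebra.FormallyUnramified Γ(Y, (V : Y.Opens)) Γ(Y, (V' : Y.Opens)) :=
    Algebra.FormallyUnramified.of_isLocalization (Submonoid.powers a)
  haveI : Subsingleton Ω[Γ(Y, (V' : Y.Opens))⁄Γ(Y, (V : Y.Opens))] :=
    Algebra.FormallyUnramified.subsingleton_kaehlerDifferential
  refine h1_map_bijective _ _ _ _ ?_ _
  exact fun r => Groth.L18.Frame.ro_self hU' r

theorem isLocalized_res {c c' : Chart f} (h : Le c' c) (g : Γ(X, (c.U : X.Opens)))
    (hg : (c'.U : X.Opens) = X.basicOpen g) (hV : c'.V = c.V) :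
    (∀ y : c'.H, ∃ (n : ℕ) (x : c.H), res h x = ro h.hU (g ^ n) • y) ∧
      ∀ x : c.H, res h x = 0 → ∃ n : ℕ, g ^ n • x = 0 := by
  obtain ⟨U, V, e⟩ := c
  obtain ⟨U', V', e'⟩ := c'
  obtain ⟨hU, hV'⟩ := h
  subst hV
  dsimp only at g hg e e' hU hV'
  unfold res NLCx.chartRes
  simp only [LinearMap.toAddMonoidHom_coe]
  letI := (f.appLE (V' : Y.Opens) (U : X.Opens) e).hom.toAlgebra
  letI := (f.appLE (V' : Y.Opens) (U' : X.Opens) e').hom.toAlgebra
  letI := (X.presheaf.map (homOfLE hU).op).hom.toAlgebra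
  haveI : IsScalarTower Γ(Y, (V' : Y.Opens)) Γ(X, (U : X.Opens)) Γ(X, (U' : X.Opens)) :=
    IsScalarTower.of_algebraMap_eq' (by
      change (f.appLE _ _ _).hom = (X.presheaf.map _).hom.comp (f.appLE _ _ _).hom
      rw [← CommRingCat.hom_comp, Scheme.Hom.appLE_map])
  haveI : IsLocalization.Away g Γ(X, (U' : X.Opens)) := U.2.isLocalization_of_eq_basicOpen g (homOfLE hU) hg
  refine h1_map_localized₂ g _ ?_ _
  exact fun r => Groth.L18.Frame.ro_self hV' r

end Chart

end Groth.L19.H1Sheaf
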