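import Groth.Agent.L19.H1Sheaf.Chart

/-!
# Classes in `H^{-1}` of elements of the ideal
-/

set_option autoImplicit false
set_option linter.style.haveILetI false
set_option backward.isDefEq.respectTransparency.types false
set_option backward.isDefEq.respectTransparency false

universe u

open Algebra TensorProduct

noncomputable section

namespace Groth.L19.H1Sheaf

variable {R S : Type u} [CommRing R] [CommRing S] [Algebra R S]

theorem C_mem_ker {a : R} (ha : algebraMap R S a = 0) : MvPolynomial.C a ∈ (Generators.self R S).ker := by
  rw [Generators.ker_eq_ker_aeval_val, RingHom.mem_ker, MvPolynomial.aeval_C, ha]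

/-- the class of an element of the kernel -/
def cls (a : R) (ha : algebraMap R S a = 0) : Algebra.H1Cotangent R S :=
  ⟨Extension.Cotangent.mk ⟨MvPolynomial.C a, C_mem_ker ha⟩,
    Extension.Cotangent.mk_C_mem_ker_cotangentComplex (Generators.self R S) (C_mem_ker ha)⟩

theorem cls_add (a b : R) (ha : algebraMap R S a = 0) (hb : algebraMap R S b = 0)
    (hab : algebraMap R S (a + b) = 0) : cls (a + b) hab = cls a ha + cls b hb := by
  refine Extension.h1Cotangentι_ext _ _ ?_
  refine (congrArg Extension.Cotangent.mk ?_).trans (map_add Extension.Cotangent.mk _ _)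
  exact Subtype.ext (map_add MvPolynomial.C a b)

theorem cls_mul (r a : R) (ha : algebraMap R S a = 0) (hra : algebraMap R S (r * a) = 0) :
    cls (r * a) hra = algebraMap R S r • cls a ha := by
  let P := (Generators.self R S).toExtension
  refine Extension.h1Cotangentι_ext _ _ ?_
  show Extension.Cotangent.mk ⟨MvPolynomial.C (r * a), _⟩ =
    algebraMap R S r • (Extension.Cotangent.mk ⟨MvPolynomial.C a, _⟩ : P.Cotangent)
  rw [show algebraMap R S r = algebraMap P.Ring S (MvPolynomial.C r) from (MvPolynomial.aeval_C _ r).symm,
    IsScalarTower.algebraMap_smul S (show P.Ring from MvPolynomial.C r)]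
  refine Eq.trans ?_ (map_smul Extension.Cotangent.mk (show P.Ring from MvPolynomial.C r) _)
  exact congrArg Extension.Cotangent.mk (Subtype.ext (map_mul MvPolynomial.C r a))

theorem cls_congr {a b : R} (h : a = b) (ha : algebraMap R S a = 0) (hb : algebraMap R S b = 0) :
    cls a ha = cls b hb := by
  subst h; rfl

theorem map_cls {R' S' : Type u} [CommRing R'] [CommRing S'] [Algebra R' S'] [Algebra R S']
    [Algebra R R'] [IsScalarTower R R' S'] [Algebra S S'] [IsScalarTower R S S']
    (a : R) (ha : algebraMap R S a = 0) (ha' : algebraMap R' S' (algebraMap R R' a) = 0) :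
    Algebra.H1Cotangent.map R R' S S' (cls a ha) = cls (algebraMap R R' a) ha' := by
  refine Extension.h1Cotangentι_ext _ _ ?_
  refine (Extension.Cotangent.map_mk _ _).trans (congrArg Extension.Cotangent.mk (Subtype.ext ?_))
  exact ((Generators.self R S).defaultHom (Generators.self R' S')).toExtensionHom.toRingHom_algebraMap a

variable (hs : Function.Surjective (algebraMap R S))

/-- the trivial presentation of a surjection -/
abbrev quotExt : Extension.{u} R S :=
  { Ring := R
    σ := Function.surjInv hs
    algebraMap_σ := Function.rightInverse_surjInv hs }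

/-- the map to the polynomial presentation -/
def quotHom : (quotExt hs).Hom (Generators.self R S).toExtension where
  toRingHom := MvPolynomial.C
  toRingHom_algebraMap _ := rfl
  algebraMap_toRingHom x := (MvPolynomial.aeval_C _ x).trans (Algebra.algebraMap_self_apply _).symm

include hs in
theorem exists_cls (x : Algebra.H1Cotangent R S) : ∃ (a : R) (ha : algebraMap R S a = 0), cls a ha = x := by
  haveI : FormallySmooth R (quotExt hs).Ring := inferInstanceAs (FormallySmooth R R)
  haveI : FormallySmooth R (Generators.self R S).toExtension.Ring :=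
    inferInstanceAs (FormallySmooth R (MvPolynomial _ _))
  obtain ⟨y, rfl⟩ := (Extension.H1Cotangent.equivOfFormallySmooth (quotExt hs)
    (Generators.self R S).toExtension).surjective x
  obtain ⟨⟨a, ha⟩, hy⟩ := Extension.Cotangent.mk_surjective y.1
  refine ⟨a, ha, Extension.h1Cotangentι_ext _ _ ?_⟩
  rw [Extension.H1Cotangent.equivOfFormallySmooth_apply (quotHom hs) y]
  show _ = Extension.Cotangent.map (quotHom hs) y.1
  rw [← hy]
  exact (Extension.Cotangent.map_mk (quotHom hs) ⟨a, ha⟩).symm

include hs in
theorem mem_sq_of_cls_eq_zero (a : R) (ha : algebraMap R S a = 0) (h : cls a ha = 0) :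
    a ∈ RingHom.ker (algebraMap R S) ^ 2 := by
  haveI : FormallySmooth R (quotExt hs).Ring := inferInstanceAs (FormallySmooth R R)
  haveI : FormallySmooth R (Generators.self R S).toExtension.Ring :=
    inferInstanceAs (FormallySmooth R (MvPolynomial _ _))
  haveI : Subsingleton Ω[(quotExt hs).Ring⁄R] :=
    KaehlerDifferential.subsingleton_of_surjective R R Function.surjective_id
  let y : (quotExt hs).H1Cotangent :=
    ⟨Extension.Cotangent.mk ⟨a, ha⟩, by
      rw [LinearMap.mem_ker, Extension.cotangentComplex_mk,
        Subsingleton.elim (KaehlerDifferential.D R (quotExt hs).Ring a) 0]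
      exact tmul_zero _ _⟩
  have h0 : Extension.H1Cotangent.map (quotHom hs) y = cls a ha :=
    Extension.h1Cotangentι_ext _ _ (Extension.Cotangent.map_mk (quotHom hs) _)
  have hy : y = 0 := by
    refine (Extension.H1Cotangent.equivOfFormallySmooth (quotExt hs)
      (Generators.self R S).toExtension).injective ?_
    rw [Extension.H1Cotangent.equivOfFormallySmooth_apply (quotHom hs) y, h0, h, map_zero]
  have h1 : ((quotExt hs).ker.toCotangent ⟨a, ha⟩) = 0 :=
    congrArg (fun z : (quotExt hs).H1Cotangent => Extension.Cotangent.val z.1) hy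
  exact (Ideal.toCotangent_eq_zero _ _).mp h1

end Groth.L19.H1Sheaf
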