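import Groth.Agent.L19.H1Sheaf.Sheaf
import Groth.Agent.L19.H1Sheaf.Cls
import Groth.Agent.L19.OmegaSh.ConormalMono
import Groth.Agent.L19.OmegaSh.ConormalOmega
import Mathlib.AlgebraicGeometry.Morphisms.FormallyUnramified
import Mathlib.AlgebraicGeometry.Morphisms.Immersion

/-!
# The conormal sheaf of an immersion is `H^{-1}(NL)`
-/

set_option autoImplicit false
set_option linter.style.haveILetI false
set_option backward.isDefEq.respectTransparency.types false
set_option backward.isDefEq.respectTransparency false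

universe u

open CategoryTheory AlgebraicGeometry TopologicalSpace Opposite

noncomputable section

namespace Groth.L19.H1Sheaf

open Groth.L18.Frame (ro rs ro_ro ro_self rs_rs rs_self rs_smul)
open _root_.OmegaSh (idealSect conormalSect)
open Groth.L19.OmegaSh (idl idealSect_rs idealSect_smul app_idealSect exists_idealSect conormalSect_rs
  conormalSect_smul conormalSect_eq_of_sub_mem_sq app_ro exists_affine_surjective exists_conormal_hom
  conormal_hom_ext exists_hom_of_basis eq_of_local)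
open Chart (Le res res_res res_self res_smul)

variable {Z X : Scheme.{u}} {i : Z ⟶ X}

namespace Chart

/-- the class of a function vanishing on the chart -/
def clsC (c : Chart i) (a : Γ(X, (c.V : X.Opens))) (ha : i.appLE c.V c.U c.e a = 0) : c.H :=
  letI := (i.appLE (c.V : X.Opens) (c.U : Z.Opens) c.e).hom.toAlgebra
  cls a ha

theorem clsC_congr (c : Chart i) {a b : Γ(X, (c.V : X.Opens))} (h : a = b)
    (ha : i.appLE c.V c.U c.e a = 0) (hb : i.appLE c.V c.U c.e b = 0) : c.clsC a ha = c.clsC b hb := by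
  subst h; rfl

theorem clsC_add (c : Chart i) (a b : Γ(X, (c.V : X.Opens))) (ha : i.appLE c.V c.U c.e a = 0)
    (hb : i.appLE c.V c.U c.e b = 0) (hab : i.appLE c.V c.U c.e (a + b) = 0) :
    c.clsC (a + b) hab = c.clsC a ha + c.clsC b hb :=
  letI := (i.appLE (c.V : X.Opens) (c.U : Z.Opens) c.e).hom.toAlgebra
  cls_add a b ha hb hab

theorem clsC_mul (c : Chart i) (r a : Γ(X, (c.V : X.Opens))) (ha : i.appLE c.V c.U c.e a = 0)
    (hra : i.appLE c.V c.U c.e (r * a) = 0) :
    c.clsC (r * a) hra = i.appLE c.V c.U c.e r • c.clsC a ha :=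
  letI := (i.appLE (c.V : X.Opens) (c.U : Z.Opens) c.e).hom.toAlgebra
  cls_mul r a ha hra

theorem res_clsC {c c' : Chart i} (h : Le c' c) (a : Γ(X, (c.V : X.Opens))) (ha : i.appLE c.V c.U c.e a = 0)
    (ha' : i.appLE c'.V c'.U c'.e (ro h.hV a) = 0) :
    res h (c.clsC a ha) = c'.clsC (ro h.hV a) ha' := by
  obtain ⟨U, V, e⟩ := c
  obtain ⟨U', V', e'⟩ := c'
  obtain ⟨hU, hV⟩ := h
  unfold res NLCx.chartRes clsC
  simp only [LinearMap.toAddMonoidHom_coe]
  letI := (i.appLE (V : X.Opens) (U : Z.Opens) e).hom.toAlgebra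
  letI := (i.appLE (V' : X.Opens) (U' : Z.Opens) e').hom.toAlgebra
  letI := (i.appLE (V : X.Opens) (U' : Z.Opens) (hU.trans e)).hom.toAlgebra
  letI := (X.presheaf.map (homOfLE hV).op).hom.toAlgebra
  letI := (Z.presheaf.map (homOfLE hU).op).hom.toAlgebra
  haveI : IsScalarTower Γ(X, (V : X.Opens)) Γ(X, (V' : X.Opens)) Γ(Z, (U' : Z.Opens)) :=
    IsScalarTower.of_algebraMap_eq' (by
      change (i.appLE _ _ _).hom = (i.appLE _ _ _).hom.comp (X.presheaf.map _).hom
      rw [← CommRingCat.hom_comp, Scheme.Hom.map_appLE])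
  haveI : IsScalarTower Γ(X, (V : X.Opens)) Γ(Z, (U : Z.Opens)) Γ(Z, (U' : Z.Opens)) :=
    IsScalarTower.of_algebraMap_eq' (by
      change (i.appLE _ _ _).hom = (Z.presheaf.map _).hom.comp (i.appLE _ _ _).hom
      rw [← CommRingCat.hom_comp, Scheme.Hom.appLE_map])
  exact map_cls a ha ha'

/-- closed charts -/
def IsClosedChart (c : Chart i) : Prop :=
  (c.U : Z.Opens) = i ⁻¹ᵁ (c.V : X.Opens) ∧ Function.Surjective (i.app (c.V : X.Opens))

theorem IsClosedChart.surjective_appLE {c : Chart i} (hc : c.IsClosedChart) :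
    Function.Surjective (i.appLE c.V c.U c.e) := fun b => by
  obtain ⟨a, ha⟩ := hc.2 (ro hc.1.ge b)
  refine ⟨a, ?_⟩
  show ro c.e (i.app _ a) = b
  rw [ha, ro_ro, ro_self]

theorem IsClosedChart.app_eq_zero {c : Chart i} (hc : c.IsClosedChart) {a : Γ(X, (c.V : X.Opens))}
    (ha : i.appLE c.V c.U c.e a = 0) : i.app (c.V : X.Opens) a = 0 := by
  have h := congrArg (ro hc.1.ge) (show ro c.e (i.app _ a) = 0 from ha)
  rw [ro_ro, ro_self] at h
  exact h.trans (map_zero _)

theorem IsClosedChart.exists_sect {c : Chart i} [QuasiCompact i] (hc : c.IsClosedChart) (x : c.H) :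
    ∃ (s : Γ(idl i, (c.V : X.Opens))) (h : i.appLE c.V c.U c.e (idealSect i.ker c.V s) = 0),
      c.clsC (idealSect i.ker c.V s) h = x := by
  letI := (i.appLE (c.V : X.Opens) (c.U : Z.Opens) c.e).hom.toAlgebra
  obtain ⟨a, ha, hx⟩ := exists_cls (hc.surjective_appLE) x
  obtain ⟨s, hs⟩ := exists_idealSect i _ a (hc.app_eq_zero ha)
  refine ⟨s, (congrArg (i.appLE c.V c.U c.e) hs).trans ha, ?_⟩
  rw [← hx]
  exact c.clsC_congr hs _ _

theorem IsClosedChart.sub_mem_sq {c : Chart i} (hc : c.IsClosedChart) (a b : Γ(X, (c.V : X.Opens)))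
    (ha : i.appLE c.V c.U c.e a = 0) (hb : i.appLE c.V c.U c.e b = 0) (h : c.clsC a ha = c.clsC b hb) :
    a - b ∈ RingHom.ker (i.app (c.V : X.Opens)).hom ^ 2 := by
  letI := (i.appLE (c.V : X.Opens) (c.U : Z.Opens) c.e).hom.toAlgebra
  have hab : algebraMap Γ(X, (c.V : X.Opens)) Γ(Z, (c.U : Z.Opens)) (a - b) = 0 := by
    rw [map_sub]
    show i.appLE c.V c.U c.e a - i.appLE c.V c.U c.e b = 0
    rw [ha, hb, sub_zero]
  have h0 : cls (a - b) hab = 0 := by
    have hb' : algebraMap Γ(X, (c.V : X.Opens)) Γ(Z, (c.U : Z.Opens)) b = 0 := hb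
    have ha' : algebraMap Γ(X, (c.V : X.Opens)) Γ(Z, (c.U : Z.Opens)) a = 0 := ha
    have h1 := cls_add (a - b) b hab hb' (by rw [sub_add_cancel]; exact ha')
    rw [cls_congr (sub_add_cancel a b) _ ha'] at h1
    exact add_eq_right.mp (h1.symm.trans h)
  refine Ideal.pow_right_mono (fun x hx => ?_) 2 (mem_sq_of_cls_eq_zero hc.surjective_appLE _ hab h0)
  exact hc.app_eq_zero hx

end Chart

variable (i) in
theorem exists_closed_chart [IsImmersion i] (z : Z) (O : X.Opens) (hO : i z ∈ O) :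
    ∃ c : Chart i, c.IsClosedChart ∧ z ∈ (c.U : Z.Opens) ∧ (c.V : X.Opens) ≤ O := by
  obtain ⟨W, hzW, hWO, hU, hs⟩ := exists_affine_surjective (i := i) z O hO
  exact ⟨⟨⟨i ⁻¹ᵁ W.1, hU⟩, W, le_rfl⟩, ⟨rfl, hs⟩, hzW, hWO⟩

variable (i) in
theorem exists_closed_chart' [IsImmersion i] (z : Z) (O : Z.Opens) (hO : z ∈ O) :
    ∃ c : Chart i, c.IsClosedChart ∧ z ∈ (c.U : Z.Opens) ∧ (c.U : Z.Opens) ≤ O := by
  obtain ⟨O', hO', hOO'⟩ := i.isEmbedding.isInducing.isOpen_iff.mp O.2
  obtain ⟨c, hc, hz, hle⟩ := exists_closed_chart i z ⟨O', hO'⟩ (hOO'.symm.subset hO)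
  exact ⟨c, hc, hz, fun x hx => hOO'.subset (hle (c.e hx))⟩

theorem appLE_ro_eq_zero {O : X.Opens} (a : Γ(X, O)) (ha : i.app O a = 0) (d : Chart i)
    (h : (d.V : X.Opens) ≤ O) : i.appLE d.V d.U d.e (ro h a) = 0 := by
  show ro d.e (i.app _ (ro h a)) = 0
  rw [app_ro, ro_ro, ha]
  exact map_zero _

/-- the seed of a section of the ideal -/
def idlSeed (O : X.Opens) (s : Γ(idl i, O)) : Seed i where
  S d := (d.V : X.Opens) ≤ O
  v d h := d.clsC (ro h (idealSect i.ker O s)) (appLE_ro_eq_zero _ (app_idealSect i O s) d h)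
  down h h' := h.hV.trans h'
  compat {d d'} h p p' := by
    refine (Chart.res_clsC h _ _ (appLE_ro_eq_zero _ (app_idealSect i O s) d' p' |> fun h' => by
      rw [ro_ro]; exact h')).trans ?_
    exact d'.clsC_congr (ro_ro _ _ _) _ _

theorem idlSeed_covers [IsImmersion i] (O : X.Opens) (s : Γ(idl i, O))
    (c : {c : Chart i // (c.U : Z.Opens) ≤ i ⁻¹ᵁ O}) : (idlSeed O s).Covers c.1 := by
  intro p hp
  obtain ⟨d, -, hpd, hle⟩ := exists_closed_chart i p O (c.2 hp)
  exact ⟨d, hle, hpd⟩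

/-- the family of a section of the ideal -/
def idlVal [IsImmersion i] (O : X.Opens) (s : Γ(idl i, O)) : fam i (i ⁻¹ᵁ O) :=
  ⟨fun c => (idlSeed O s).val (idlSeed_covers O s c), fun _ _ h => (idlSeed O s).val_res h _ _⟩

variable (i) in
theorem exists_toH1 [IsImmersion i] :
    ∃ α : Omega.conormal i ⟶ h1Sheaf i, ∀ O s, α.app (i ⁻¹ᵁ O) (conormalSect i O s) = idlVal O s := by
  refine exists_conormal_hom (N := h1Sheaf i) (fun O s => (idlVal O s : fam i (i ⁻¹ᵁ O))) (fun O s t => ?_)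
    (fun O r s => ?_) (fun O O' h s => ?_)
  · refine Subtype.ext (funext fun c => (idlSeed O (s + t)).val_unique (idlSeed_covers O _ c)
      ((idlSeed O (s + t)).isVal_val (idlSeed_covers O (s + t) c)) fun d hd p => ?_)
    show res hd ((idlSeed O s).val (idlSeed_covers O s c) + (idlSeed O t).val (idlSeed_covers O t c)) = _
    rw [map_add, (idlSeed O s).isVal_val _ d hd p, (idlSeed O t).isVal_val _ d hd p]
    refine (Chart.clsC_add d _ _ (appLE_ro_eq_zero _ (app_idealSect i O s) d p)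
      (appLE_ro_eq_zero _ (app_idealSect i O t) d p) ?_).symm.trans
      (d.clsC_congr ?_ _ (appLE_ro_eq_zero _ (app_idealSect i O (s + t)) d p))
    · rw [map_add, appLE_ro_eq_zero _ (app_idealSect i O s) d p,
        appLE_ro_eq_zero _ (app_idealSect i O t) d p, add_zero]
    · rw [map_add]; exact (map_add _ _ _).symm
  · refine Subtype.ext (funext fun c => (idlSeed O (r • s)).val_unique (idlSeed_covers O _ c)
      ((idlSeed O (r • s)).isVal_val (idlSeed_covers O (r • s) c)) fun d hd p => ?_)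
    show res hd (ro c.2 (i.app O r) • (idlSeed O s).val (idlSeed_covers O s c)) = _
    rw [res_smul, (idlSeed O s).isVal_val _ d hd p]
    have hr : ro hd.hU (ro c.2 (i.app O r)) = i.appLE d.V d.U d.e (ro p r) := by
      show _ = ro d.e (i.app _ (ro p r))
      rw [app_ro, ro_ro, ro_ro]
    rw [hr]
    refine (Chart.clsC_mul d _ _ (appLE_ro_eq_zero _ (app_idealSect i O s) d p) ?_).symm.trans
      (d.clsC_congr ?_ _ (appLE_ro_eq_zero _ (app_idealSect i O (r • s)) d p))
    · rw [map_mul, appLE_ro_eq_zero _ (app_idealSect i O s) d p, mul_zero]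
    · rw [idealSect_smul]; exact (Groth.L18.Frame.ro_mul _ _ _).symm
  · refine Subtype.ext (funext fun c => (idlSeed O' (rs (idl i) h s)).val_unique (idlSeed_covers O' _ c)
      ((idlSeed O' (rs (idl i) h s)).isVal_val (idlSeed_covers O' (rs (idl i) h s) c)) fun d hd p => ?_)
    show res hd ((idlSeed O s).val (idlSeed_covers O s ⟨c.1, c.2.trans (Scheme.Hom.preimage_mono _ h)⟩)) = _
    rw [(idlSeed O s).isVal_val _ d hd (p.trans h)]
    exact d.clsC_congr (by rw [idealSect_rs, ro_ro]) (appLE_ro_eq_zero _ (app_idealSect i O s) d (p.trans h))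
      (appLE_ro_eq_zero _ (app_idealSect i O' (rs (idl i) h s)) d p)

theorem conormalSect_eq_of_clsC [QuasiCompact i] {c : Chart i} (hc : c.IsClosedChart)
    (s t : Γ(idl i, (c.V : X.Opens))) (hs : i.appLE c.V c.U c.e (idealSect i.ker c.V s) = 0)
    (ht : i.appLE c.V c.U c.e (idealSect i.ker c.V t) = 0)
    (h : c.clsC _ hs = c.clsC _ ht) : conormalSect i c.V s = conormalSect i c.V t :=
  conormalSect_eq_of_sub_mem_sq s t (hc.sub_mem_sq _ _ hs ht h)

/-- the value of the inverse map on a closed chart -/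
theorem exists_back [IsImmersion i] [QuasiCompact i] {W : Z.Opens} (x : fam i W) :
    ∃! y : Γ(Omega.conormal i, W), ∀ (c : Chart i) (hc : c.IsClosedChart) (h : (c.U : Z.Opens) ≤ W)
      (s : Γ(idl i, (c.V : X.Opens))) (hs : i.appLE c.V c.U c.e (idealSect i.ker c.V s) = 0),
      c.clsC _ hs = x.1 ⟨c, h⟩ →
        rs (Omega.conormal i) h y = rs (Omega.conormal i) c.e (conormalSect i c.V s) := by
  let ι := {c : Chart i // c.IsClosedChart ∧ (c.U : Z.Opens) ≤ W}
  choose s hs hx using fun c : ι => c.2.1.exists_sect (x.1 ⟨c.1, c.2.2⟩)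
  have key : ∀ (a b : Chart i) (hca : a.IsClosedChart) (hcb : b.IsClosedChart) (ha : (a.U : Z.Opens) ≤ W)
      (hb : (b.U : Z.Opens) ≤ W) (u : Γ(idl i, (a.V : X.Opens)))
      (hu : i.appLE a.V a.U a.e (idealSect i.ker a.V u) = 0) (v : Γ(idl i, (b.V : X.Opens)))
      (hv : i.appLE b.V b.U b.e (idealSect i.ker b.V v) = 0),
      a.clsC _ hu = x.1 ⟨a, ha⟩ → b.clsC _ hv = x.1 ⟨b, hb⟩ →
      rs (Omega.conormal i) inf_le_left (rs (Omega.conormal i) a.e (conormalSect i a.V u)) =
        rs (Omega.conormal i) (inf_le_right : (a.U : Z.Opens) ⊓ b.U ≤ b.U)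
          (rs (Omega.conormal i) b.e (conormalSect i b.V v)) := by
    intro a b hca hcb ha hb u hu v hv eu ev
    refine eq_of_local _ _ fun z hz => ?_
    obtain ⟨d, hd, hzd, hle⟩ := exists_closed_chart i z ((a.V : X.Opens) ⊓ b.V) ⟨a.e hz.1, b.e hz.2⟩
    have hla : (d.U : Z.Opens) ≤ a.U := hca.1 ▸ d.e.trans (Scheme.Hom.preimage_mono _ (hle.trans inf_le_left))
    have hlb : (d.U : Z.Opens) ≤ b.U := hcb.1 ▸ d.e.trans (Scheme.Hom.preimage_mono _ (hle.trans inf_le_right))
    refine ⟨d.U, le_inf hla hlb, hzd, ?_⟩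
    have hda : Le d a := ⟨hla, hle.trans inf_le_left⟩
    have hdb : Le d b := ⟨hlb, hle.trans inf_le_right⟩
    have h0a : i.appLE d.V d.U d.e (idealSect i.ker d.V (rs (idl i) hda.hV u)) = 0 := by
      rw [idealSect_rs]; exact appLE_ro_eq_zero _ (app_idealSect i _ u) d hda.hV
    have h0b : i.appLE d.V d.U d.e (idealSect i.ker d.V (rs (idl i) hdb.hV v)) = 0 := by
      rw [idealSect_rs]; exact appLE_ro_eq_zero _ (app_idealSect i _ v) d hdb.hV
    have e1 := conormalSect_eq_of_clsC hd (rs (idl i) hda.hV u) (rs (idl i) hdb.hV v) h0a h0b (by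
      rw [d.clsC_congr (idealSect_rs (i := i) hda.hV u) h0a (appLE_ro_eq_zero _ (app_idealSect i _ u) d hda.hV),
        d.clsC_congr (idealSect_rs (i := i) hdb.hV v) h0b (appLE_ro_eq_zero _ (app_idealSect i _ v) d hdb.hV),
        ← Chart.res_clsC hda _ hu, ← Chart.res_clsC hdb _ hv, eu, ev,
        x.2 ⟨a, ha⟩ ⟨d, hla.trans ha⟩ hda, x.2 ⟨b, hb⟩ ⟨d, hla.trans ha⟩ hdb])
    rw [conormalSect_rs, conormalSect_rs] at e1
    have e2 := congrArg (rs (Omega.conormal i) d.e) e1
    simp only [rs_rs] at e2 ⊢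
    exact e2
  obtain ⟨y, hy, huniq⟩ := Groth.L19.OmegaSh.existsUnique_glue_opens (Omega.conormal i)
    (fun c : ι => (c.1.U : Z.Opens)) (fun c => c.2.2)
    (fun z hz => by
      obtain ⟨c, hc, hzc, hle⟩ := exists_closed_chart' i z W hz
      exact ⟨⟨c, hc, hle⟩, hzc⟩)
    (fun c => rs (Omega.conormal i) c.1.e (conormalSect i c.1.V (s c)))
    (fun a b => key a.1 b.1 a.2.1 b.2.1 a.2.2 b.2.2 _ (hs a) _ (hs b) (hx a) (hx b))
  refine ⟨y, fun c hc h t ht e => ?_, fun y' hy' => huniq y' fun c => hy' c.1 c.2.1 c.2.2 (s c) (hs c) (hx c)⟩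
  refine (hy ⟨c, hc, h⟩).trans ?_
  have h1 := key c c hc hc h h t ht (s ⟨c, hc, h⟩) (hs ⟨c, hc, h⟩) e (hx ⟨c, hc, h⟩)
  have h2 := congrArg (rs (Omega.conormal i) (le_inf le_rfl le_rfl : (c.U : Z.Opens) ≤ (c.U : Z.Opens) ⊓ (c.U : Z.Opens))) h1
  simp only [rs_rs] at h2
  exact h2.symm

/-- the inverse values -/
def backVal [IsImmersion i] [QuasiCompact i] {W : Z.Opens} (x : fam i W) : Γ(Omega.conormal i, W) :=
  (exists_back x).exists.choose

theorem backVal_spec [IsImmersion i] [QuasiCompact i] {W : Z.Opens} (x : fam i W) (c : Chart i)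
    (hc : c.IsClosedChart) (h : (c.U : Z.Opens) ≤ W) (s : Γ(idl i, (c.V : X.Opens)))
    (hs : i.appLE c.V c.U c.e (idealSect i.ker c.V s) = 0) (e : c.clsC _ hs = x.1 ⟨c, h⟩) :
    rs (Omega.conormal i) h (backVal x) = rs (Omega.conormal i) c.e (conormalSect i c.V s) :=
  (exists_back x).exists.choose_spec c hc h s hs e

theorem backVal_unique [IsImmersion i] [QuasiCompact i] {W : Z.Opens} (x : fam i W)
    (y : Γ(Omega.conormal i, W))
    (hy : ∀ (c : Chart i) (_ : c.IsClosedChart) (h : (c.U : Z.Opens) ≤ W) (s : Γ(idl i, (c.V : X.Opens)))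
      (hs : i.appLE c.V c.U c.e (idealSect i.ker c.V s) = 0), c.clsC _ hs = x.1 ⟨c, h⟩ →
        rs (Omega.conormal i) h y = rs (Omega.conormal i) c.e (conormalSect i c.V s)) :
    backVal x = y :=
  ((exists_back x).unique (backVal_spec x) hy)

variable (i) in
/-- the inverse map -/
theorem exists_fromH1 [IsImmersion i] [QuasiCompact i] :
    ∃ β : h1Sheaf i ⟶ Omega.conormal i, ∀ (W : Z.Opens) (x : fam i W), β.app W x = backVal x := by
  let φ : (h1Sheaf i).presheaf ⟶ (Omega.conormal i).presheaf :=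
    { app := fun W => AddCommGrpCat.ofHom (AddMonoidHom.mk' (fun x : fam i W.unop => backVal x) fun x x' =>
        backVal_unique _ _ fun c hc h r hr e => by
          obtain ⟨s, hs, es⟩ := hc.exists_sect (x.1 ⟨c, h⟩)
          obtain ⟨t, ht, et⟩ := hc.exists_sect (x'.1 ⟨c, h⟩)
          have hst : i.appLE c.V c.U c.e (idealSect i.ker c.V (s + t)) = 0 := by
            rw [map_add, map_add, hs, ht, add_zero]
          refine (map_add _ _ _).trans ?_
          refine (congrArg₂ (· + ·) (backVal_spec x c hc h s hs es) (backVal_spec x' c hc h t ht et)).trans ?_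
          refine (map_add _ _ _).symm.trans (congrArg _ ?_)
          refine (map_add (conormalSect i c.V).hom s t).symm.trans (conormalSect_eq_of_clsC hc _ _ hst hr ?_)
          refine (c.clsC_congr (map_add _ _ _) hst (by rw [map_add, hs, ht, add_zero])).trans ?_
          rw [c.clsC_add _ _ hs ht, es, et, e]
          rfl)
      naturality := fun W W' g => by
        ext x
        refine backVal_unique (W := W'.unop) _ (rs (Omega.conormal i) g.unop.le (backVal x))
          fun c hc h s hs e => ?_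
        rw [rs_rs]
        exact backVal_spec x c hc (h.trans g.unop.le) s hs e }
  refine ⟨⟨PresheafOfModules.homMk φ fun W (r : Γ(Z, W.unop)) (x : fam i W.unop) => ?_⟩, fun W x => rfl⟩
  refine backVal_unique (W := W.unop) _ (r • backVal x) fun c hc h u hu e => ?_
  obtain ⟨s, hs, es⟩ := hc.exists_sect (x.1 ⟨c, h⟩)
  obtain ⟨a, ha⟩ := hc.2 (ro hc.1.ge (ro h r))
  have hra : i.appLE c.V c.U c.e (idealSect i.ker c.V (a • s)) = 0 := by
    rw [idealSect_smul, map_mul, hs, mul_zero]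
  rw [rs_smul, backVal_spec x c hc h s hs es]
  have hra' : i.appLE c.V c.U c.e a = ro h r := by
    show ro c.e (i.app _ a) = _
    rw [ha, ro_ro, ro_self]
  rw [← hra']
  show ro c.e (i.app _ a) • rs _ c.e _ = _
  rw [← rs_smul, ← conormalSect_smul]
  refine congrArg _ (conormalSect_eq_of_clsC hc _ _ hra hu ?_)
  rw [e, c.clsC_congr (idealSect_smul (i := i) (c.V : X.Opens) a s) hra (by rw [map_mul, hs, mul_zero]), c.clsC_mul _ _ hs, es, hra']
  rfl

variable (i) in
/-- The class map is an isomorphism. -/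
theorem exists_iso_toH1 [IsImmersion i] [QuasiCompact i] :
    ∃ e : Omega.conormal i ≅ h1Sheaf i, ∀ O s, e.hom.app (i ⁻¹ᵁ O) (conormalSect i O s) = idlVal O s := by
  obtain ⟨α, hα⟩ := exists_toH1 i
  obtain ⟨β, hβ⟩ := exists_fromH1 i
  refine ⟨⟨α, β, conormal_hom_ext fun U s => ?_, ?_⟩, hα⟩
  · show β.app (i ⁻¹ᵁ U) (α.app (i ⁻¹ᵁ U) (conormalSect i U s)) = conormalSect i U s
    rw [hα, hβ]
    refine eq_of_local _ _ fun z hz => ?_
    obtain ⟨d, hd, hzd, hle⟩ := exists_closed_chart i z U hz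
    have hdU : (d.U : Z.Opens) ≤ i ⁻¹ᵁ U := d.e.trans (Scheme.Hom.preimage_mono _ hle)
    refine ⟨d.U, hdU, hzd, ?_⟩
    have h0 : i.appLE d.V d.U d.e (idealSect i.ker d.V (rs (idl i) hle s)) = 0 := by
      rw [idealSect_rs]; exact appLE_ro_eq_zero _ (app_idealSect i U s) d hle
    rw [backVal_spec (idlVal U s) d hd hdU (rs (idl i) hle s) h0
      ((d.clsC_congr (idealSect_rs (i := i) hle s) h0
        (appLE_ro_eq_zero _ (app_idealSect i U s) d hle)).trans
        ((idlSeed U s).val_eq (idlSeed_covers U s ⟨d, hdU⟩) hle).symm), conormalSect_rs, rs_rs]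
  · ext W x
    show α.app W (β.app W (x : fam i W)) = x
    rw [hβ]
    refine eq_of_local _ _ fun z hz => ?_
    obtain ⟨d, hd, hzd, hle⟩ := exists_closed_chart' i z W hz
    refine ⟨d.U, hle, hzd, ?_⟩
    obtain ⟨s, hs, es⟩ := hd.exists_sect ((x : fam i W).1 ⟨d, hle⟩)
    rw [← Groth.L19.OmegaSh.hom_rs α hle, backVal_spec x d hd hle s hs es,
      Groth.L19.OmegaSh.hom_rs α d.e, hα]
    refine (eval_bijective d).1 ?_
    show (idlSeed (d.V : X.Opens) s).val (idlSeed_covers _ s ⟨d, d.e⟩) = _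
    rw [(idlSeed (d.V : X.Opens) s).val_eq (idlSeed_covers _ s ⟨d, d.e⟩) le_rfl]
    exact (d.clsC_congr (ro_self _ _) (appLE_ro_eq_zero _ (app_idealSect i _ s) d le_rfl) hs).trans es

variable (i) in
theorem nonempty_iso_h1Sheaf [IsImmersion i] [QuasiCompact i] :
    Nonempty (Omega.conormal i ≅ h1Sheaf i) := ⟨(exists_iso_toH1 i).choose⟩

/-- transport of the chart identifications along an isomorphism -/
def h1SheafOfIso {Y : Scheme.{u}} {f : Z ⟶ Y} {F G : Z.Modules} (e : F ≅ G) (c : NLCx.H1Sheaf f G) :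
    NLCx.H1Sheaf f F where
  iso U V h := (AddEquiv.ofBijective (e.hom.app (U : Z.Opens)).hom
    (ConcreteCategory.bijective_of_isIso (e.hom.app (U : Z.Opens)))).trans (c.iso U V h)
  map_smul U V h a (m : Γ(F, (U : Z.Opens))) := by
    show c.iso U V h (e.hom.app _ (a • m)) = a • c.iso U V h (e.hom.app _ m)
    rw [Scheme.Modules.Hom.app_smul]
    exact c.map_smul U V h a _
  map_res {U U' V V'} h h' hU hV (m : Γ(F, (U : Z.Opens))) := by
    show c.iso U' V' h' (e.hom.app _ (rs F hU m)) = _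
    rw [Groth.L19.OmegaSh.hom_rs e.hom hU]
    exact c.map_res h h' hU hV _

theorem onCharts_subsingleton_kaehler (i : Z ⟶ X) [IsImmersion i] :
    NLCx.OnCharts i (fun A B _ _ _ => Subsingleton (Ω[B⁄A])) := by
  intro U V e
  letI := (i.appLE (V : X.Opens) (U : Z.Opens) e).hom.toAlgebra
  haveI : Algebra.FormallyUnramified Γ(X, (V : X.Opens)) Γ(Z, (U : Z.Opens)) :=
    i.formallyUnramified_appLE V.2 U.2 e
  exact Algebra.FormallyUnramified.subsingleton_kaehlerDifferential

end Groth.L19.H1Sheaf
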