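import Groth.Agent.L19.H1Sheaf.Chart
import Groth.Agent.L16.QcqsPush
import Mathlib.Topology.Sheaves.SheafCondition.UniqueGluing
import Mathlib.Algebra.Category.ModuleCat.Presheaf
import Mathlib.AlgebraicGeometry.Modules.Sheaf

/-!
# The sheaf `H^{-1}(NL_{X/Y})`
-/

set_option autoImplicit false
set_option linter.style.haveILetI false
set_option backward.isDefEq.respectTransparency.types false
set_option backward.isDefEq.respectTransparency false

universe u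

open CategoryTheory AlgebraicGeometry TopologicalSpace Opposite

noncomputable section

namespace Groth.L19.H1Sheaf

open Groth.L18.Frame (ro ro_ro ro_self)

variable {X Y : Scheme.{u}} {f : X ⟶ Y}

namespace Chart

/-- a basic open piece -/
def basic (c : Chart f) (g : Γ(X, (c.U : X.Opens))) : Chart f :=
  ⟨⟨X.basicOpen g, c.U.2.basicOpen g⟩, c.V, (X.basicOpen_le g).trans c.e⟩

theorem basic_le (c : Chart f) (g : Γ(X, (c.U : X.Opens))) : Le (c.basic g) c :=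
  ⟨X.basicOpen_le g, le_rfl⟩

theorem span_eq_top_of_cover (c : Chart f) (P : Γ(X, (c.U : X.Opens)) → Prop)
    (h : ∀ p ∈ (c.U : X.Opens), ∃ g, P g ∧ p ∈ X.basicOpen g) :
    Ideal.span {g | P g} = ⊤ := by
  rw [← c.U.2.self_le_iSup_basicOpen_iff]
  intro p hp
  obtain ⟨g, hg, hpg⟩ := h p hp
  exact Opens.mem_iSup.mpr ⟨⟨g, hg⟩, hpg⟩

theorem sep {c : Chart f} (x : c.H)
    (h : ∀ p ∈ (c.U : X.Opens), ∃ (d : Chart f) (hd : Le d c), p ∈ (d.U : X.Opens) ∧ d.V = c.V ∧ res hd x = 0) :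
    x = 0 := by
  have hs := c.span_eq_top_of_cover (fun g => ∃ n : ℕ, g ^ n • x = 0) fun p hp => by
    obtain ⟨d, hd, hpd, hV, hx⟩ := h p hp
    obtain ⟨g, hgle, hpg⟩ := c.U.2.exists_basicOpen_le ⟨p, hpd⟩ hp
    have hbd : Le (c.basic g) d := ⟨hgle, hV.ge.trans' le_rfl⟩
    refine ⟨g, (isLocalized_res (c.basic_le g) g rfl rfl).2 x ?_, hpg⟩
    rw [← res_res hd hbd, hx, map_zero]
  let J : Ideal Γ(X, (c.U : X.Opens)) := LinearMap.ker (LinearMap.toSpanSingleton _ c.H x)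
  have hJ : J = ⊤ := by
    rw [← Ideal.radical_eq_top, eq_top_iff, ← hs, Ideal.span_le]
    rintro g ⟨n, hn⟩
    exact ⟨n, hn⟩
  have h1 : (1 : Γ(X, (c.U : X.Opens))) ∈ J := hJ ▸ trivial
  exact (one_smul _ x).symm.trans h1

end Chart

open Chart (Le res res_res res_self res_smul)

variable (f) in
/-- values on a downward closed collection of charts -/
structure Seed where
  S : Chart f → Prop
  v : ∀ d : Chart f, S d → d.H
  down : ∀ {d d' : Chart f}, Le d' d → S d → S d'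
  compat : ∀ {d d' : Chart f} (h : Le d' d) (p : S d) (p' : S d'), res h (v d p) = v d' p'

namespace Seed

variable (σ : Seed f)

/-- `y` extends the values -/
def IsVal (c : Chart f) (y : c.H) : Prop := ∀ (d : Chart f) (h : Le d c) (p : σ.S d), res h y = σ.v d p

/-- covering -/
def Covers (c : Chart f) : Prop := ∀ p ∈ (c.U : X.Opens), ∃ d, σ.S d ∧ p ∈ (d.U : X.Opens)

theorem isVal_res {c c' : Chart f} (h : Le c' c) {y : c.H} (hy : σ.IsVal c y) : σ.IsVal c' (res h y) :=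
  fun d hd p => by rw [res_res]; exact hy d _ p

theorem exists_piece {c : Chart f} (hc : σ.Covers c) (p : X) (hp : p ∈ (c.U : X.Opens)) :
    ∃ (g : Γ(X, (c.U : X.Opens))) (d : Chart f) (h : Le d (c.basic g)) (a : Γ(Y, (c.V : Y.Opens))),
      σ.S d ∧ p ∈ X.basicOpen g ∧ d.U = (c.basic g).U ∧ (d.V : Y.Opens) = Y.basicOpen a := by
  obtain ⟨d₀, hd₀, hpd⟩ := hc p hp
  obtain ⟨a, b, hab, hpa⟩ :=
    exists_basicOpen_le_affine_inter c.V.2 d₀.V.2 (f p) ⟨c.e hp, d₀.e hpd⟩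
  let W : Y.affineOpens := ⟨Y.basicOpen a, c.V.2.basicOpen a⟩
  obtain ⟨g, hgle, hpg⟩ := c.U.2.exists_basicOpen_le
    (V := (d₀.U : X.Opens) ⊓ f ⁻¹ᵁ (W : Y.Opens)) ⟨p, hpd, hpa⟩ hp
  let d : Chart f := ⟨(c.basic g).U, W, hgle.trans inf_le_right⟩
  exact ⟨g, d, ⟨le_rfl, Y.basicOpen_le a⟩, a,
    σ.down (d' := d) ⟨hgle.trans inf_le_left, hab.le.trans (Y.basicOpen_le b)⟩ hd₀, hpg, rfl, rfl⟩

theorem val_unique {c : Chart f} (hc : σ.Covers c) {y y' : c.H} (hy : σ.IsVal c y) (hy' : σ.IsVal c y') :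
    y = y' := by
  rw [← sub_eq_zero]
  refine Chart.sep _ fun p hp => ?_
  obtain ⟨g, d, h, a, hd, hpg, hU, hV⟩ := σ.exists_piece hc p hp
  refine ⟨c.basic g, c.basic_le g, hpg, rfl, ?_⟩
  refine (Chart.bijective_res_base h hU a hV).1 ?_
  rw [map_zero, res_res, map_sub, hy d _ hd, hy' d _ hd, sub_self]

theorem exists_local {c : Chart f} (hc : σ.Covers c) (p : X) (hp : p ∈ (c.U : X.Opens)) :
    ∃ g, (∃ y : (c.basic g).H, σ.IsVal (c.basic g) y) ∧ p ∈ X.basicOpen g := by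
  obtain ⟨g, d, h, a, hd, hpg, hU, hV⟩ := σ.exists_piece hc p hp
  obtain ⟨y, hy⟩ := (Chart.bijective_res_base h hU a hV).2 (σ.v d hd)
  refine ⟨g, ⟨y, fun d' h' hd' => ?_⟩, hpg⟩
  rw [← sub_eq_zero]
  refine Chart.sep _ fun q hq => ?_
  have hqd : q ∈ (d.U : X.Opens) := by rw [hU]; exact h'.hU hq
  obtain ⟨a', b', hab, hqa⟩ :=
    exists_basicOpen_le_affine_inter d'.V.2 d.V.2 (f q) ⟨d'.e hq, d.e hqd⟩
  let W : Y.affineOpens := ⟨Y.basicOpen a', d'.V.2.basicOpen a'⟩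
  obtain ⟨g', hgle, hqg⟩ := d'.U.2.exists_basicOpen_le
    (V := (d.U : X.Opens) ⊓ f ⁻¹ᵁ (W : Y.Opens)) ⟨q, hqd, hqa⟩ hq
  let d'' : Chart f := ⟨(d'.basic g').U, W, hgle.trans inf_le_right⟩
  have h₁ : Le d'' d := ⟨hgle.trans inf_le_left, hab.le.trans (Y.basicOpen_le b')⟩
  have h₂ : Le d'' (d'.basic g') := ⟨le_rfl, Y.basicOpen_le a'⟩
  refine ⟨d'.basic g', d'.basic_le g', hqg, rfl, ?_⟩
  refine (Chart.bijective_res_base h₂ rfl a' rfl).1 ?_
  rw [map_zero, res_res, map_sub, res_res, σ.compat _ hd' (σ.down h₁ hd), ← σ.compat h₁ hd (σ.down h₁ hd),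
    ← hy, res_res, sub_self]

theorem res_overlap {c : Chart f} (hc : σ.Covers c) (g₁ g₂ : Γ(X, (c.U : X.Opens)))
    (y₁ : (c.basic g₁).H) (y₂ : (c.basic g₂).H) (h₁ : σ.IsVal _ y₁) (h₂ : σ.IsVal _ y₂)
    (a₁ a₂ : c.H) (n₁ n₂ : ℕ)
    (e₁ : res (c.basic_le g₁) a₁ = ro (c.basic_le g₁).hU (g₁ ^ n₁) • y₁)
    (e₂ : res (c.basic_le g₂) a₂ = ro (c.basic_le g₂).hU (g₂ ^ n₂) • y₂) :
    ∃ N : ℕ, (g₁ * g₂) ^ N • (g₂ ^ n₂ • a₁ - g₁ ^ n₁ • a₂) = 0 := by
  have hle : X.basicOpen (g₁ * g₂) = X.basicOpen g₁ ⊓ X.basicOpen g₂ := X.basicOpen_mul _ _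
  have hi : Le (c.basic (g₁ * g₂)) (c.basic g₁) := ⟨hle.le.trans inf_le_left, le_rfl⟩
  have hj : Le (c.basic (g₁ * g₂)) (c.basic g₂) := ⟨hle.le.trans inf_le_right, le_rfl⟩
  have hcov : σ.Covers (c.basic (g₁ * g₂)) := fun p hp => hc p (X.basicOpen_le (g₁ * g₂) hp)
  refine (Chart.isLocalized_res (c.basic_le (g₁ * g₂)) (g₁ * g₂) rfl rfl).2 _ ?_
  rw [map_sub, res_smul, res_smul, ← res_res (c.basic_le g₁) hi, ← res_res (c.basic_le g₂) hj, e₁, e₂,
    res_smul, res_smul, ro_ro, ro_ro,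
    σ.val_unique hcov (σ.isVal_res hi h₁) (σ.isVal_res hj h₂), smul_smul, smul_smul,
    sub_eq_zero]
  exact congrArg (· • _) (mul_comm _ _)

theorem eq_of_smul {c : Chart f} (g : Γ(X, (c.U : X.Opens))) (y : (c.basic g).H) (a m : c.H) (n N : ℕ)
    (e : res (c.basic_le g) a = ro (c.basic_le g).hU (g ^ n) • y)
    (hN : g ^ N • (g ^ n • m - a) = 0) : res (c.basic_le g) m = y := by
  have h0 := congrArg (res (c.basic_le g)) hN
  rw [res_smul, map_sub, res_smul, map_zero, e, ← smul_sub, smul_smul] at h0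
  have hu : IsUnit (ro (c.basic_le g).hU (g ^ N) * ro (c.basic_le g).hU (g ^ n)) := by
    have hu₀ : IsUnit (ro (c.basic_le g).hU g) := RingedSpace.isUnit_res_basicOpen X.toRingedSpace g
    rw [← Groth.L18.Frame.ro_mul, ← pow_add]
    show IsUnit (X.presheaf.map _ (g ^ _))
    rw [map_pow]
    exact hu₀.pow _
  exact sub_eq_zero.mp (hu.smul_eq_zero.mp h0)

theorem isVal_of_cover {c : Chart f} {ι : Type u} (g : ι → Γ(X, (c.U : X.Opens)))
    (hg : Ideal.span (Set.range g) = ⊤) (m : c.H) (hm : ∀ i, σ.IsVal _ (res (c.basic_le (g i)) m)) :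
    σ.IsVal c m := by
  intro d hd pd
  rw [← sub_eq_zero]
  refine Chart.sep _ fun p hp => ?_
  have hcov : (c.U : X.Opens) ≤ ⨆ x : (Set.range g), X.basicOpen (x : Γ(X, (c.U : X.Opens))) :=
    c.U.2.self_le_iSup_basicOpen_iff.mpr hg
  obtain ⟨⟨_, i, rfl⟩, hpi⟩ := Opens.mem_iSup.mp (hcov (hd.hU hp))
  obtain ⟨g', hgle, hpg⟩ := d.U.2.exists_basicOpen_le (V := X.basicOpen (g i)) ⟨p, hpi⟩ hp
  have h₃ : Le (d.basic g') (c.basic (g i)) := ⟨hgle, hd.hV⟩
  refine ⟨d.basic g', d.basic_le g', hpg, rfl, ?_⟩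
  have h₄ := hm i _ h₃ (σ.down (d.basic_le g') pd)
  rw [res_res] at h₄
  rw [map_sub, res_res, h₄, σ.compat (d.basic_le g') pd (σ.down (d.basic_le g') pd), sub_self]

theorem existsUnique_val {c : Chart f} (hc : σ.Covers c) : ∃! y : c.H, σ.IsVal c y := by
  classical
  refine (?_ : ∃ y, σ.IsVal c y).elim fun y hy => ⟨y, hy, fun y' hy' => σ.val_unique hc hy' hy⟩
  have hs := c.span_eq_top_of_cover (fun g => ∃ y : (c.basic g).H, σ.IsVal (c.basic g) y)
    (σ.exists_local hc)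
  obtain ⟨t, hts, ht⟩ := Submodule.mem_span_finite_of_mem_span ((Ideal.eq_top_iff_one _).mp hs)
  let g : {g // g ∈ t} → Γ(X, (c.U : X.Opens)) := fun i => i.1
  have hspan : Ideal.span (Set.range g) = ⊤ := by
    rw [show Set.range g = ↑t from Subtype.range_coe_subtype]
    exact (Ideal.eq_top_iff_one _).mpr ht
  choose Y' hY' using fun i : {g // g ∈ t} => (hts i.2 : ∃ y : (c.basic (g i)).H, σ.IsVal _ y)
  choose n a ha using fun i => (Chart.isLocalized_res (c.basic_le (g i)) (g i) rfl rfl).1 (Y' i)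
  obtain ⟨m, hm⟩ := exists_glue g hspan a n fun i j =>
    σ.res_overlap hc (g i) (g j) _ _ (hY' i) (hY' j) _ _ _ _ (ha i) (ha j)
  refine ⟨m, σ.isVal_of_cover g hspan m fun i => ?_⟩
  obtain ⟨N, hN⟩ := hm i
  rw [Seed.eq_of_smul (g i) (Y' i) (a i) m (n i) N (ha i) hN]
  exact hY' i

/-- the value -/
def val {c : Chart f} (hc : σ.Covers c) : c.H := (σ.existsUnique_val hc).exists.choose

theorem isVal_val {c : Chart f} (hc : σ.Covers c) : σ.IsVal c (σ.val hc) :=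
  (σ.existsUnique_val hc).exists.choose_spec

theorem val_res {c c' : Chart f} (h : Le c' c) (hc : σ.Covers c) (hc' : σ.Covers c') :
    res h (σ.val hc) = σ.val hc' :=
  σ.val_unique hc' (σ.isVal_res h (σ.isVal_val hc)) (σ.isVal_val hc')

theorem val_eq {c : Chart f} (hc : σ.Covers c) (p : σ.S c) : σ.val hc = σ.v c p :=
  (res_self (Le.refl c) _).symm.trans (σ.isVal_val hc c (Le.refl c) p)

end Seed

variable (f) in
/-- compatible families over the charts inside `O` -/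
def fam (O : X.Opens) : AddSubgroup (∀ c : {c : Chart f // (c.U : X.Opens) ≤ O}, c.1.H) where
  carrier := {m | ∀ (c c' : {c : Chart f // (c.U : X.Opens) ≤ O}) (h : Le c'.1 c.1), res h (m c) = m c'}
  add_mem' := fun {a b} ha hb c c' h => by
    show res h (a c + b c) = a c' + b c'
    rw [map_add, ha c c' h, hb c c' h]
  zero_mem' := fun c c' h => map_zero _
  neg_mem' := fun {a} ha c c' h => by
    show res h (- a c) = - a c'
    rw [map_neg, ha c c' h]

instance (O : X.Opens) : SMul Γ(X, O) (fam f O) :=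
  ⟨fun r m => ⟨fun c => ro c.2 r • m.1 c, fun c c' h => by
    show res h (ro c.2 r • m.1 c) = ro c'.2 r • m.1 c'
    rw [res_smul, ro_ro, m.2 c c' h]⟩⟩

theorem fam_smul_apply {O : X.Opens} (r : Γ(X, O)) (m : fam f O) (c : {c : Chart f // (c.U : X.Opens) ≤ O}) :
    (r • m).1 c = ro c.2 r • m.1 c := rfl

instance (O : X.Opens) : Module Γ(X, O) (fam f O) where
  one_smul m := Subtype.ext (funext fun c => by rw [fam_smul_apply]; simp [ro])
  mul_smul r r' m := Subtype.ext (funext fun c => by simp only [fam_smul_apply, ro, map_mul, mul_smul])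
  smul_zero r := Subtype.ext (funext fun c => smul_zero _)
  smul_add r m m' := Subtype.ext (funext fun c => smul_add _ _ _)
  add_smul r r' m := Subtype.ext (funext fun c => by
    show _ = ro c.2 r • m.1 c + ro c.2 r' • m.1 c
    rw [fam_smul_apply]; simp only [ro, map_add, add_smul])
  zero_smul m := Subtype.ext (funext fun c => by
    show _ = (0 : c.1.H)
    rw [fam_smul_apply]; simp only [ro, map_zero, zero_smul])

variable (f) in
/-- restriction of families -/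
def famRes {O O' : X.Opens} (h : O' ≤ O) : fam f O →+ fam f O' where
  toFun m := ⟨fun c => m.1 ⟨c.1, c.2.trans h⟩,
    fun c c' hc => m.2 ⟨c.1, c.2.trans h⟩ ⟨c'.1, c'.2.trans h⟩ hc⟩
  map_zero' := rfl
  map_add' _ _ := rfl

variable (f) in
/-- the underlying presheaf -/
def famPresheaf : (Opens X)ᵒᵖ ⥤ Ab.{u} where
  obj O := AddCommGrpCat.of (fam f O.unop)
  map i := AddCommGrpCat.ofHom (famRes f i.unop.le)
  map_id _ := rfl
  map_comp _ _ := rfl

theorem isSheaf_famPresheaf : TopCat.Presheaf.IsSheaf (X := X.toTopCat) (famPresheaf f) := by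
  refine (TopCat.Presheaf.isSheaf_iff_isSheafUniqueGluing _).mpr ?_
  intro ι W sf hsf
  let n : ∀ k (c : Chart f), (c.U : X.Opens) ≤ W k → c.H := fun k c hc => (sf k).1 ⟨c, hc⟩
  have hn : ∀ k l (c : Chart f) (hk : (c.U : X.Opens) ≤ W k) (hl : (c.U : X.Opens) ≤ W l),
      n k c hk = n l c hl := fun k l c hk hl =>
    congrFun (congrArg Subtype.val (hsf k l)) ⟨c, le_inf hk hl⟩
  let σ : Seed f :=
    { S := fun d => ∃ k, (d.U : X.Opens) ≤ W k
      v := fun d hd => n hd.choose d hd.choose_spec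
      down := fun h hd => ⟨hd.choose, h.hU.trans hd.choose_spec⟩
      compat := fun {d d'} h p p' =>
        ((sf p.choose).2 ⟨d, p.choose_spec⟩ ⟨d', h.hU.trans p.choose_spec⟩ h).trans
          (hn _ _ _ _ p'.choose_spec) }
  have hc : ∀ c : {c : Chart f // (c.U : X.Opens) ≤ iSup W}, σ.Covers c.1 := by
    intro c p hp
    obtain ⟨k, hk⟩ := Opens.mem_iSup.1 (c.2 hp)
    obtain ⟨g, hgle, hpg⟩ := c.1.U.2.exists_basicOpen_le ⟨p, hk⟩ hp
    exact ⟨c.1.basic g, ⟨k, hgle⟩, hpg⟩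
  refine ⟨⟨fun c => σ.val (hc c), fun c c' h => σ.val_res h _ _⟩, fun k => ?_, fun m hm => ?_⟩
  · refine Subtype.ext (funext fun c => ?_)
    show σ.val (hc ⟨c.1, _⟩) = _
    exact (σ.val_eq _ ⟨k, c.2⟩).trans (hn _ k _ _ c.2)
  · refine Subtype.ext (funext fun c => ?_)
    refine σ.val_unique (hc c) (fun d hd pd => ?_) (σ.isVal_val (hc c))
    rw [m.2 c ⟨d, hd.hU.trans c.2⟩ hd]
    exact congrFun (congrArg Subtype.val (hm pd.choose)) ⟨d, pd.choose_spec⟩

instance (O : (Opens X)ᵒᵖ) : Module (X.ringCatSheaf.obj.obj O) ((famPresheaf f).obj O) :=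
  inferInstanceAs (Module Γ(X, O.unop) (fam f O.unop))

variable (f) in
/-- the sheaf `H^{-1}(NL_{X/Y})` -/
def h1Sheaf : X.Modules where
  val := PresheafOfModules.ofPresheaf (famPresheaf f) fun {O O'} i r m => Subtype.ext (funext fun c => by
    show ro (c.2.trans i.unop.le) r • m.1 ⟨c.1, c.2.trans i.unop.le⟩ =
      ro c.2 (ro i.unop.le r) • m.1 ⟨c.1, c.2.trans i.unop.le⟩
    rw [ro_ro])
  isSheaf := isSheaf_famPresheaf

/-- the seed of one value -/
def seedOf (c₀ : Chart f) (m : c₀.H) : Seed f where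
  S d := Le d c₀
  v _ h := res h m
  down h h' := h.trans h'
  compat h _ _ := res_res _ h m

theorem eval_bijective (c : Chart f) :
    Function.Bijective fun m : fam f c.U => m.1 ⟨c, le_rfl⟩ := by
  refine ⟨fun m m' hmm => Subtype.ext (funext fun d => ?_), fun y => ?_⟩
  · let σ := seedOf c (m.1 ⟨c, le_rfl⟩)
    have hc : σ.Covers d.1 := fun p hp => ⟨c, Le.refl c, d.2 hp⟩
    refine σ.val_unique hc (fun d' h p => ?_) (fun d' h p => ?_)
    · rw [m.2 d ⟨d', h.hU.trans d.2⟩ h]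
      exact (m.2 ⟨c, le_rfl⟩ ⟨d', h.hU.trans d.2⟩ p).symm
    · rw [m'.2 d ⟨d', h.hU.trans d.2⟩ h]
      exact (m'.2 ⟨c, le_rfl⟩ ⟨d', h.hU.trans d.2⟩ p).symm.trans (congrArg (res p) hmm.symm)
  · let σ := seedOf c y
    have hc : ∀ d : {d : Chart f // (d.U : X.Opens) ≤ c.U}, σ.Covers d.1 :=
      fun d p hp => ⟨c, Le.refl c, d.2 hp⟩
    exact ⟨⟨fun d => σ.val (hc d), fun d d' h => σ.val_res h _ _⟩,
      (σ.val_eq (hc ⟨c, le_rfl⟩) (Le.refl c)).trans (res_self _ y)⟩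

variable (f) in
/-- `h1Sheaf` has the expected sections -/
def h1SheafData : NLCx.H1Sheaf f (h1Sheaf f) where
  iso U V e := AddEquiv.ofBijective
    (AddMonoidHom.mk' (fun m : fam f U => m.1 ⟨⟨U, V, e⟩, le_rfl⟩) fun _ _ => rfl)
    (eval_bijective ⟨U, V, e⟩)
  map_smul U V e a (m : fam f U) := by
    show ro (le_refl (U : X.Opens)) a • m.1 ⟨⟨U, V, e⟩, le_rfl⟩ = a • m.1 ⟨⟨U, V, e⟩, le_rfl⟩
    rw [ro_self]
  map_res {U U' V V'} e e' hU hV (m : fam f U) :=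
    (m.2 ⟨⟨U, V, e⟩, le_rfl⟩ ⟨⟨U', V', e'⟩, hU⟩ ⟨hU, hV⟩).symm

open Groth.L18.Frame (rs) in
theorem isQCoh_of_h1Sheaf (F : X.Modules) (c : NLCx.H1Sheaf f F) : Coh.IsQCoh F := by
  refine Groth.L16.QcqsPush.isQCoh_of_sections F fun x => ?_
  obtain ⟨V, hV, hxV, -⟩ := exists_isAffineOpen_mem_and_subset (x := f x) (U := ⊤) trivial
  obtain ⟨U, hU, hxU, hle⟩ := exists_isAffineOpen_mem_and_subset (x := x) (U := f ⁻¹ᵁ V) hxV
  refine ⟨U, hxU, hU, fun a => ?_⟩
  let d : Chart f := ⟨⟨U, hU⟩, ⟨V, hV⟩, hle⟩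
  let d' : Chart f := d.basic a
  have hl := Chart.isLocalized_res (d.basic_le a) a rfl rfl
  have hr : ∀ t : Γ(F, U), c.iso d'.U d'.V d'.e (rs F (X.basicOpen_le a) t) =
      res (d.basic_le a) (c.iso d.U d.V d.e t) := fun t => c.map_res d.e d'.e (d.basic_le a).hU le_rfl t
  refine ⟨fun s => ?_, fun t ht => ?_⟩
  · obtain ⟨n, y, hy⟩ := hl.1 (c.iso d'.U d'.V d'.e s)
    refine ⟨n, (c.iso d.U d.V d.e).symm y, (c.iso d'.U d'.V d'.e).injective ?_⟩
    refine (hr _).trans ?_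
    rw [AddEquiv.apply_symm_apply, hy]
    exact (c.map_smul d'.U d'.V d'.e (ro (d.basic_le a).hU (a ^ n)) s).symm
  · obtain ⟨n, hn⟩ := hl.2 (c.iso d.U d.V d.e t) (by
      exact (hr t).symm.trans ((congrArg (c.iso d'.U d'.V d'.e) ht).trans (map_zero _)))
    refine ⟨n, (c.iso d.U d.V d.e).injective ?_⟩
    refine (c.map_smul d.U d.V d.e (a ^ n) t).trans (hn.trans ?_)
    exact (map_zero _).symm

end Groth.L19.H1Sheaf
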